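import Cfsg.Agent.Lib.KnownSimple.MultM.M12.Rel

/-!
# Combinations of closed paths 0
-/

set_option autoImplicit false

namespace Cfsg.Agent.Lib.KnownSimple.MultM.M12

open Cfsg Cfsg.Spor Cfsg.Agent.Lib.Compute Cfsg.Agent.Lib.KnownSimple.PE Cfsg.Agent.Lib.KnownSimple.Leech
open Cfsg.Agent.Lib.KnownSimple Cfsg.Agent.Lib.KnownSimple.AutRigid Cfsg.Agent.Lib.KnownSimple.Pres
open Cfsg.Agent.Lib.KnownSimple.MultC
open Cfsg.Agent.Lib.Golay Cfsg.Agent.Lib.KnownSimple.CodeCalc Cfsg.Agent.Lib.KnownSimple.MathieuData Cfsg.Agent.Lib.KnownSimple.MathieuFacts
open Cfsg.Agent.Lib.KnownSimple.MathieuGen Cfsg.Agent.Lib.KnownSimple.MathieuOut Cfsg.Agent.Lib.KnownSimple.MultM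

set_option maxRecDepth 1000000 in
/-- A combination of closed paths. -/
def L0 : List Entry := [(0,6,true,2271015413677),(0,7,true,4767296239442),(0,11,true,195360680000),(0,23,false,2982416166253),(0,24,true,3196671607982),(0,26,false,152343830000),(1,0,false,8092816350008),(1,4,true,288693440000),(1,6,true,1998625585770),(1,11,false,195360680000),(1,26,false,95825650000),(2,1,false,5248864449049),(2,2,true,12218037255761),(2,6,true,632388644039),(2,8,false,103204520000),(2,16,true,96225346179),(3,2,false,20974090021805),(3,3,true,822407786532),(3,8,true,19663700000),(3,17,true,19503304384300),(3,26,true,34421460000),(4,0,false,6971976042990),(4,1,true,11511183702072),(4,2,false,10455715954170),(4,3,false,3095492426253),(4,4,false,202719610000),(4,16,false,4604672987711),(4,17,true,15467556071390),(5,1,false,31270485468459),(5,2,true,23098033824863),(5,3,true,8133863703961),(5,4,false,190434770000),(5,17,false,33049998524235),(5,26,false,329277270000),(6,0,true,3949322873406),(6,4,true,224856230000),(6,6,false,4902029643486),(6,8,true,83540820000),(6,16,false,254351799997),(6,17,false,1920861931455),(6,24,true,17367078226665),(6,25,false,4398731449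442),(6,26,true,149870910000),(7,0,false,9621411069375),(7,1,true,1370377941458),(7,2,false,2458957313680),(7,3,false,15329910151390),(7,26,true,17190780000),(8,0,false,14985010390903),(8,4,true,192887760000),(8,23,false,482449888266),(9,1,true,21615050127846),(9,2,false,1427307790969),(9,3,true,9469131087150),(9,16,true,4762799441529),(9,26,true,41780390000),(10,4,false,313283050000),(10,24,false,1207775614795),(10,25,true,7698140065695),(10,26,true,81107790000),(11,0,true,35721890979868),(11,1,true,2022738146132),(11,7,false,4767296239442),(11,22,false,4),(11,23,true,3464866054519),(11,24,false,19355974219852),(11,25,false,3299408616253),(11,26,true,253075420000)]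
set_option maxHeartbeats 0 in
set_option maxRecDepth 1000000 in
theorem cert0 : chkCert τ d n RL R0.length 0 0 (-1) L0 = true := by decide +kernel
set_option maxRecDepth 1000000 in
/-- A combination of closed paths. -/
def L1 : List Entry := [(0,6,false,1125288137437),(0,7,false,2362195286556),(0,11,false,96801216940),(0,23,true,1477787210325),(0,24,false,1583950781705),(0,26,true,75486367765),(1,0,true,4009990501278),(1,4,false,143047599520),(1,6,false,990318977700),(1,11,true,96801216940),(1,26,true,47481609575),(2,1,true,2600812334389),(2,2,false,6054037459975),(2,6,false,313348573117),(2,8,true,51137839660),(2,16,false,47679659037),(3,2,true,10392661605399),(3,3,false,407503058219),(3,8,false,9743363350),(3,17,false,9663887322061),(3,26,false,17055833430),(4,0,true,3454614129190),(4,1,false,5703791524168),(4,2,true,5180807255096),(4,3,true,1533816497153),(4,4,true,100447566755),(4,16,true,2281615465318),(4,17,false,7664174033092),(5,1,true,15494525549043),(5,2,false,11445075759799),(5,3,false,4030329465166),(5,4,true,94360428535),(5,17,true,16376274268157),(5,26,true,163156887285),(6,0,false,1956889483687),(6,4,false,111416261965),(6,6,true,24289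55688254),(6,8,false,41394476310),(6,16,true,126031316899),(6,17,true,951787086996),(6,24,false,8605387260987),(6,25,true,2179571433109),(6,26,false,74261035905),(7,0,true,4767409184696),(7,1,false,679022269951),(7,2,true,1218413348888),(7,3,true,7595970479734),(7,26,false,8518031490),(8,0,true,7425072648416),(8,4,false,95575885080),(8,23,true,239053919630),(9,1,false,10710257337939),(9,2,true,707231010391),(9,3,false,4691954453502),(9,16,false,2359967123180),(9,26,false,20702183245),(10,4,true,155231751275),(10,24,true,598452817117),(10,25,false,3814428402411),(10,26,false,40188909945),(11,0,false,17700196979892),(11,1,false,1002266751375),(11,7,true,2362195286556),(11,22,true,2),(11,23,false,1716841129957),(11,24,true,9590885225575),(11,25,true,1634856969302),(11,26,false,125398870610)]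
set_option maxHeartbeats 0 in
set_option maxRecDepth 1000000 in
theorem cert1 : chkCert τ d n RL R0.length 0 1 (1) L1 = true := by decide +kernel
set_option maxRecDepth 1000000 in
/-- A combination of closed paths. -/
def L2 : List Entry := [(0,6,false,1155946845607),(0,7,false,2426553785978),(0,11,false,99438586120),(0,23,true,1518049828685),(0,24,false,1627105848520),(0,26,true,77543009470),(1,0,true,4119243522329),(1,4,false,146944960960),(1,6,false,1017300423214),(1,11,true,99438586120),(1,26,true,48775255850),(2,1,true,2671672004702),(2,2,false,6218980963473),(2,6,false,321885819821),(2,8,true,52531100680),(2,16,false,48978701200),(3,2,true,10675811821569),(3,3,false,418605563356),(3,8,false,10008823300),(3,17,false,9927181932028),(3,26,false,17520523140),(4,0,true,3548735806012),(4,1,false,5859192504599),(4,2,true,5321959420899),(4,3,true,1575605645025),(4,4,true,103184281490),(4,16,true,2343778550853),(4,17,false,7872986040666),(5,1,true,15916677104120),(5,2,false,11756899217348),(5,3,false,4140136625486),(5,4,true,96931297930),(5,17,true,16822449249538),(5,26,true,167602130430),(6,0,false,2010205342661),(6,4,false,114451821070),(6,6,true,2495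133088642),(6,8,false,42522277380),(6,16,true,129465066198),(6,17,true,977718723156),(6,24,false,8839842817752),(6,25,true,2238954307868),(6,26,false,76284293190),(7,0,true,4897298234522),(7,1,false,697522372248),(7,2,true,1251609272709),(7,3,true,7802924267386),(7,26,false,8750107020),(8,0,true,7627370289293),(8,4,false,98179869840),(8,23,true,245566993133),(9,1,false,11002060515549),(9,2,true,726499665643),(9,3,false,4819787723569),(9,16,false,2424264915851),(9,26,false,21266218510),(10,4,true,159461072450),(10,24,true,614757787947),(10,25,false,3918353293603),(10,26,false,41283865110),(11,0,false,18182442509494),(11,1,false,1029573716426),(11,7,true,2426553785978),(11,22,true,2),(11,23,false,1763616821818),(11,24,true,9852190878323),(11,25,true,1679398985735),(11,26,false,128815388780)]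
set_option maxHeartbeats 0 in
set_option maxRecDepth 1000000 in
theorem cert2 : chkCert τ d n RL R0.length 0 2 (1) L2 = true := by decide +kernel
set_option maxRecDepth 1000000 in
/-- A combination of closed paths. -/
def L3 : List Entry := [(0,6,false,1138914229971),(0,7,false,2390799064106),(0,11,false,97973381020),(0,23,true,1495681707391),(0,24,false,1603130811416),(0,26,true,76400430745),(1,0,true,4058547399571),(1,4,false,144779760160),(1,6,false,1002310731276),(1,11,true,97973381020),(1,26,true,48056563475),(2,1,true,2632305521230),(2,2,false,6127345683834),(2,6,false,317142904987),(2,8,true,51757066780),(2,16,false,48257011109),(3,2,true,10518506146053),(3,3,false,412437504948),(3,8,false,9861345550),(3,17,false,9780907148833),(3,26,false,17262362190),(4,0,true,3496445985590),(4,1,false,5772858626652),(4,2,true,5243541551070),(4,3,true,1552389451778),(4,4,true,101663884415),(4,16,true,2309243503364),(4,17,false,7756979369884),(5,1,true,15682148462602),(5,2,false,11583663963292),(5,3,false,4079132647576),(5,4,true,95503037155),(5,17,true,16574574260080),(5,26,true,165132550905),(6,0,false,1980585421036),(6,4,false,112765399345),(6,6,true,24583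67866234),(6,8,false,41895721230),(6,16,true,127557427699),(6,17,true,963312258637),(6,24,false,8709589730766),(6,25,true,2205963821919),(6,26,false,75160261365),(7,0,true,4825137651344),(7,1,false,687244537653),(7,2,true,1233167092822),(7,3,true,7687949941004),(7,26,false,8621176170),(8,0,true,7514982711119),(8,4,false,96733211640),(8,23,true,241948618966),(9,1,false,10839947639232),(9,2,true,715794857181),(9,3,false,4748769240259),(9,16,false,2388543919954),(9,26,false,20952865585),(10,4,true,157111449575),(10,24,true,605699470823),(10,25,false,3860617242987),(10,26,false,40675556685),(11,0,false,17914528326587),(11,1,false,1014403180295),(11,7,true,2390799064106),(11,22,true,2),(11,23,false,1737630326357),(11,24,true,9707021071359),(11,25,true,1654653421066),(11,26,false,126917323130)]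
set_option maxHeartbeats 0 in
set_option maxRecDepth 1000000 in
theorem cert3 : chkCert τ d n RL R0.length 0 3 (1) L3 = true := by decide +kernel
set_option maxRecDepth 1000000 in
/-- A combination of closed paths. -/
def L4 : List Entry := [(0,6,false,1135450960178),(0,7,false,2383528997652),(0,11,false,97675458432),(0,23,true,1491133560461),(0,24,false,1598255927592),(0,26,true,76168108314),(1,0,true,4046205957038),(1,4,false,144339506284),(1,6,false,999262852620),(1,11,true,97675458432),(1,26,true,47910430560),(2,1,true,2624301069481),(2,2,false,6108713331741),(2,6,false,316178520262),(2,8,true,51599681181),(2,16,false,48110268631),(3,2,true,10486520924230),(3,3,false,411183343445),(3,8,false,9831358654),(3,17,false,9751164856395),(3,26,false,17209869895),(4,0,true,3485813810228),(4,1,false,5755304217118),(4,2,true,5227596716534),(4,3,true,1547668864970),(4,4,true,101354739551),(4,16,true,2302221435362),(4,17,false,7733391542543),(5,1,true,15634461367893),(5,2,false,11548439753918),(5,3,false,4066728608311),(5,4,true,95212626518),(5,17,true,16524173430424),(5,26,true,164630407196),(6,0,false,1974562753685),(6,4,false,112422496413),(6,6,true,245089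2333060),(6,8,false,41768322527),(6,16,true,127169544391),(6,17,true,960382968514),(6,24,false,8683105156226),(6,25,true,2199255812150),(6,26,false,74931710107),(7,0,true,4810465121206),(7,1,false,685154728715),(7,2,true,1229417213989),(7,3,true,7664572021967),(7,26,false,8594960446),(8,0,true,7492130759863),(8,4,false,96439060224),(8,23,true,241212888966),(9,1,false,10806984961314),(9,2,true,713618230906),(9,3,false,4734328935181),(9,16,false,2381280711122),(9,26,false,20889151014),(10,4,true,156633696851),(10,24,true,603857628244),(10,25,false,3848877676774),(10,26,false,40551868322),(11,0,false,17860052894649),(11,1,false,1011318530227),(11,7,true,2383528997652),(11,22,true,2),(11,23,false,1732346449427),(11,24,true,9677503455574),(11,25,true,1649621864624),(11,26,false,126531386288)]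
set_option maxHeartbeats 0 in
set_option maxRecDepth 1000000 in
theorem cert4 : chkCert τ d n RL R0.length 0 4 (1) L4 = true := by decide +kernel
set_option maxRecDepth 1000000 in
/-- A combination of closed paths. -/
def L5 : List Entry := [(0,5,false,1),(0,6,false,3416050),(0,7,false,7170914),(0,11,false,293880),(0,23,true,4486124),(0,24,false,4808458),(0,26,true,229170),(1,0,true,12173106),(1,4,false,434280),(1,6,false,3006234),(1,11,true,293880),(1,26,true,144150),(2,1,true,7895155),(2,2,false,18378070),(2,6,false,951278),(2,8,true,155250),(2,16,false,144780),(3,2,true,31548873),(3,3,false,1237092),(3,8,false,29580),(3,17,false,29336643),(3,26,false,51780),(4,0,true,10487266),(4,1,false,17315010),(4,2,true,15727353),(4,3,true,4656219),(4,4,true,304950),(4,16,true,6926248),(4,17,false,23266136),(5,1,true,47036693),(5,2,false,34743815),(5,3,false,12234884),(5,4,true,286470),(5,17,true,49713463),(5,26,true,495330),(6,0,false,5940451),(6,4,false,338250),(6,6,true,7373562),(6,8,false,125670),(6,16,true,382625),(6,17,true,2889316),(6,24,false,26123327),(6,25,true,6616479),(6,26,false,225450),(7,0,true,14472398),(7,1,false,2061219),(7,2,true,3698765),(7,3,true,23059081),(7,26,false,25860),(8,0,true,22540273),(8,4,false,290160),(8,23,true,725716),(9,1,false,32513045),(9,2,true,2146894),(9,3,false,14243324),(9,16,false,7164093),(9,26,false,62850),(10,4,true,471270),(10,24,true,1816770),(10,25,false,11579458),(10,26,false,122010),(11,0,false,53732592),(11,1,false,3042574),(11,7,true,7170914),(11,22,false,5),(11,23,false,5211845),(11,24,true,29115015),(11,25,true,4962979),(11,26,false,380700)]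
set_option maxHeartbeats 0 in
set_option maxRecDepth 1000000 in
theorem cert5 : chkCert τ d n RL R0.length 0 5 (0) L5 = true := by decide +kernel
set_option maxRecDepth 1000000 in
/-- A combination of closed paths. -/
def L6 : List Entry := [(0,6,false,1135510553684),(0,7,false,2383654095786),(0,11,false,97680584900),(0,23,true,1491211821748),(0,24,false,1598339811213),(0,26,true,76172105975),(1,0,true,4046418319780),(1,4,false,144347081900),(1,6,false,999315298250),(1,11,true,97680584900),(1,26,true,47912945125),(2,1,true,2624438804219),(2,2,false,6109033943813),(2,6,false,316195114767),(2,8,true,51602389375),(2,16,false,48112793722),(3,2,true,10487071303032),(3,3,false,411204924205),(3,8,false,9831874650),(3,17,false,9751676640599),(3,26,false,17210773150),(4,0,true,3485996761270),(4,1,false,5755606280937),(4,2,true,5227871083888),(4,3,true,1547750093498),(4,4,true,101360059125),(4,16,true,2302342266050),(4,17,false,7733797425118),(5,1,true,15635281933479),(5,2,false,11549045867071),(5,3,false,4066942048224),(5,4,true,95217623725),(5,17,true,16525040692089),(5,26,true,164639047775),(6,0,false,1974666387372),(6,4,false,112428396875),(6,6,true,245102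0966700),(6,8,false,41770514725),(6,16,true,127176218851),(6,17,true,960433373628),(6,24,false,8683560883901),(6,25,true,2199371238761),(6,26,false,74935642875),(7,0,true,4810717595642),(7,1,false,685190688552),(7,2,true,1229481739283),(7,3,true,7664974292568),(7,26,false,8595411550),(8,0,true,7492523979973),(8,4,false,96444121800),(8,23,true,241225548915),(9,1,false,10807552159542),(9,2,true,713655684681),(9,3,false,4734577413637),(9,16,false,2381405691179),(9,26,false,20890247375),(10,4,true,156641917725),(10,24,true,603889321421),(10,25,false,3849079682884),(10,26,false,40553996675),(11,0,false,17860990269292),(11,1,false,1011371608667),(11,7,true,2383654095786),(11,22,false,3),(11,23,false,1732437370663),(11,24,true,9678011373688),(11,25,true,1649708444123),(11,26,false,126538027250)]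
set_option maxHeartbeats 0 in
set_option maxRecDepth 1000000 in
theorem cert6 : chkCert τ d n RL R0.length 0 6 (1) L6 = true := by decide +kernel
set_option maxRecDepth 1000000 in
/-- A combination of closed paths. -/
def L7 : List Entry := [(0,6,false,23),(0,7,false,48),(0,23,true,26),(0,24,false,30),(1,0,true,71),(1,6,false,15),(2,1,true,39),(2,2,false,116),(2,6,false,9),(2,16,true,1),(3,2,true,208),(3,3,false,2),(3,17,false,194),(4,0,true,58),(4,1,false,118),(4,2,true,95),(4,3,true,21),(4,16,true,44),(4,17,false,148),(5,1,true,314),(5,2,false,222),(5,3,false,70),(5,17,true,319),(6,0,false,32),(6,6,true,47),(6,16,true,5),(6,17,true,23),(6,24,false,172),(6,25,true,43),(7,0,true,92),(7,1,false,18),(7,2,true,18),(7,3,true,148),(8,0,true,147),(8,23,true,1),(9,1,false,209),(9,2,true,17),(9,3,false,97),(9,16,false,50),(10,24,true,8),(10,25,false,74),(11,0,false,336),(11,1,false,8),(11,7,true,47),(11,22,false,5),(11,23,false,27),(11,24,true,194),(11,25,true,26)]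
set_option maxHeartbeats 0 in
set_option maxRecDepth 1000000 in
theorem cert7 : chkCert τ d n RL R0.length 0 7 (0) L7 = true := by decide +kernel
set_option maxRecDepth 1000000 in
/-- A combination of closed paths. -/
def L8 : List Entry := [(0,6,false,114375),(0,7,false,240168),(0,11,false,9796),(0,23,true,150232),(0,24,false,160916),(0,26,true,7639),(1,0,true,407729),(1,4,false,14478),(1,6,false,100836),(1,11,true,9796),(1,26,true,4805),(2,1,true,264679),(2,2,false,615816),(2,6,false,31775),(2,8,true,5175),(2,16,false,4764),(3,2,true,1056866),(3,3,false,41362),(3,8,false,986),(3,17,false,982565),(3,26,false,1726),(4,0,true,351030),(4,1,false,579884),(4,2,true,526769),(4,3,true,155898),(4,4,true,10165),(4,16,true,232074),(4,17,false,779198),(5,1,true,1575406),(5,2,false,1163622),(5,3,false,409724),(5,4,true,9549),(5,17,true,1664947),(5,26,true,16511),(6,0,false,199086),(6,4,false,11273),(6,6,true,246986),(6,8,false,4190),(6,16,true,12755),(6,17,true,96816),(6,24,false,875008),(6,25,true,221684),(6,26,false,7517),(7,0,true,484750),(7,1,false,69211),(7,2,true,123798),(7,3,true,772299),(7,26,false,862),(8,0,true,754944),(8,4,false,9672),(8,23,true,24254),(9,1,false,1089069),(9,2,true,72005),(9,3,false,477111),(9,16,false,240065),(9,26,false,2095),(10,4,true,15709),(10,24,true,60751),(10,25,false,387812),(10,26,false,4067),(11,0,false,1799367),(11,1,false,101921),(11,7,true,240168),(11,22,false,4),(11,23,false,174486),(11,24,true,975173),(11,25,true,166128),(11,26,false,12692)]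
set_option maxHeartbeats 0 in
set_option maxRecDepth 1000000 in
theorem cert8 : chkCert τ d n RL R0.length 0 8 (0) L8 = true := by decide +kernel
set_option maxRecDepth 1000000 in
/-- A combination of closed paths. -/
def L9 : List Entry := [(0,6,true,38),(0,7,true,82),(0,23,false,50),(0,24,true,46),(1,0,false,143),(1,6,true,46),(2,1,false,107),(2,2,true,241),(2,6,true,4),(2,16,false,6),(3,2,false,381),(3,3,true,6),(3,17,true,337),(4,0,false,104),(4,1,true,194),(4,2,false,183),(4,3,false,53),(4,16,false,87),(4,17,true,264),(5,1,false,542),(5,2,true,393),(5,3,true,138),(5,17,false,563),(6,0,true,81),(6,6,false,88),(6,17,false,38),(6,24,true,305),(6,25,false,85),(7,0,false,167),(7,1,true,40),(7,2,false,38),(7,3,false,261),(8,0,false,258),(8,23,false,6),(9,1,true,385),(9,2,false,32),(9,3,true,170),(9,9,false,1),(9,16,true,93),(10,24,false,13),(10,25,true,132),(11,0,true,591),(11,1,true,30),(11,7,false,82),(11,23,true,53),(11,24,false,341),(11,25,false,47)]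
set_option maxHeartbeats 0 in
set_option maxRecDepth 1000000 in
theorem cert9 : chkCert τ d n RL R0.length 0 9 (0) L9 = true := by decide +kernel
set_option maxRecDepth 1000000 in
/-- A combination of closed paths. -/
def L10 : List Entry := [(0,6,false,1135508089116),(0,7,false,2383648922235),(0,10,false,1),(0,11,false,97680372864),(0,23,true,1491208585170),(0,24,false,1598336342034),(0,26,true,76171940629),(1,0,true,4046409537341),(1,4,false,144346768568),(1,6,false,999313129398),(1,11,true,97680372864),(1,26,true,47912841121),(2,1,true,2624433108240),(2,2,false,6109020684745),(2,6,false,316194428431),(2,8,true,51602277362),(2,16,false,48112689256),(3,2,true,10487048541725),(3,3,false,411204031679),(3,8,false,9831853308),(3,17,false,9751655475298),(3,26,false,17210735789),(4,0,true,3485989195031),(4,1,false,5755593788783),(4,2,true,5227859737173),(4,3,true,1547746734172),(4,4,true,101359839103),(4,16,true,2302337269044),(4,17,false,7733780639442),(5,1,true,15635247998237),(5,2,false,11549020800690),(5,3,false,4066933221179),(5,4,true,95217417036),(5,17,true,16525004825640),(5,26,true,164638690392),(6,0,false,1974662101577),(6,4,false,112428152826),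(6,6,true,2451015646945),(6,8,false,41770424054),(6,16,true,127175942787),(6,17,true,960431289100),(6,24,false,8683542036891),(6,25,true,2199366465217),(6,26,false,74935480214),(7,0,true,4810707154353),(7,1,false,685189201494),(7,2,true,1229479070734),(7,3,true,7664957656298),(7,26,false,8595392892),(8,0,true,7492507718002),(8,4,false,96443912448),(8,23,true,241225025318),(9,1,false,10807528702599),(9,2,true,713654135803),(9,3,false,4734567137612),(9,16,false,2381400522575),(9,26,false,20890202028),(10,4,true,156641577703),(10,24,true,603888010665),(10,25,false,3849071328726),(10,26,false,40553908643),(11,0,false,17860951503149),(11,1,false,1011369413601),(11,7,true,2383648922235),(11,22,true,2),(11,23,false,1732433610494),(11,24,true,9677990368260),(11,25,true,1649704863503),(11,26,false,126537752576)]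
set_option maxHeartbeats 0 in
set_option maxRecDepth 1000000 in
theorem cert10 : chkCert τ d n RL R0.length 0 10 (1) L10 = true := by decide +kernel
set_option maxRecDepth 1000000 in
/-- A combination of closed paths. -/
def L11 : List Entry := [(0,6,false,1135507745264),(0,7,false,2383648200502),(0,11,false,97680343240),(0,23,true,1491208133637),(0,24,false,1598335857951),(0,26,true,76171917526),(1,0,true,4046408312178),(1,4,false,144346724789),(1,6,false,999312826986),(1,11,true,97680343239),(1,26,true,47912826589),(2,1,true,2624432313873),(2,2,false,6109018835361),(2,6,false,316194332600),(2,8,true,51602261712),(2,16,false,48112674595),(3,2,true,10487045366659),(3,3,false,411203907101),(3,8,false,9831850326),(3,17,false,9751652522665),(3,26,false,17210730571),(4,0,true,3485988139311),(4,1,false,5755592046046),(4,2,true,5227858154297),(4,3,true,1547746265500),(4,4,true,101359808362),(4,16,true,2302336572036),(4,17,false,7733778297744),(5,1,true,15635243264182),(5,2,false,11549017303804),(5,3,false,4066931989733),(5,4,true,95217388158),(5,17,true,16524999822064),(5,26,true,164638640460),(6,0,false,1974661503823),(6,4,false,112428118728),(6,6,true,24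51014904850),(6,8,false,41770411386),(6,16,true,127175904215),(6,17,true,960430998345),(6,24,false,8683539407742),(6,25,true,2199365799380),(6,26,false,74935457488),(7,0,true,4810705697789),(7,1,false,685188994214),(7,2,true,1229478698383),(7,3,true,7664955335472),(7,26,false,8595390285),(8,0,true,7492505449411),(8,4,false,96443883198),(8,23,true,241224952226),(9,1,false,10807525430405),(9,2,true,713653919826),(9,3,false,4734565704138),(9,16,false,2381399801656),(9,26,false,20890195693),(10,4,true,156641530195),(10,24,true,603887827714),(10,25,false,3849070163281),(10,26,false,40553896345),(11,0,false,17860946094865),(11,1,false,1011369107390),(11,7,true,2383648200502),(11,22,true,2),(11,23,false,1732433085869),(11,24,true,9677987437979),(11,25,true,1649704363901),(11,26,false,126537714199)]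
set_option maxHeartbeats 0 in
set_option maxRecDepth 1000000 in
theorem cert11 : chkCert τ d n RL R0.length 0 11 (1) L11 = true := by decide +kernel
set_option maxRecDepth 1000000 in
/-- A combination of closed paths. -/
def L12 : List Entry := [(0,6,false,1135507707256),(0,7,false,2383648120657),(0,11,false,97680340000),(0,12,false,1),(0,23,true,1491208083697),(0,24,false,1598335804509),(0,26,true,76171915000),(1,0,true,4046408176612),(1,4,false,144346720000),(1,6,false,999312793404),(1,11,true,97680340000),(1,26,true,47912825000),(2,1,true,2624432225770),(2,2,false,6109018630536),(2,6,false,316194322069),(2,8,true,51602260000),(2,16,false,48112673042),(3,2,true,10487045015221),(3,3,false,411203893367),(3,8,false,9831850000),(3,17,false,9751652196000),(3,26,false,17210730000),(4,0,true,3485988022685),(4,1,false,5755591853275),(4,2,true,5227857979157),(4,3,true,1547746213692),(4,4,true,101359805000),(4,16,true,2302336494845),(4,17,false,7733778038708),(5,1,true,15635242740418),(5,2,false,11549016916951),(5,3,false,4066931853534),(5,4,true,95217385000),(5,17,true,16524999268563),(5,26,true,164638635000),(6,0,false,1974661437591),(6,4,false,11242811500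0),(6,6,true,2451014822729),(6,8,false,41770410000),(6,16,true,127175899997),(6,17,true,960430966145),(6,24,false,8683539116812),(6,25,true,2199365725653),(6,26,false,74935455000),(7,0,true,4810705536612),(7,1,false,685188971149),(7,2,true,1229478657260),(7,3,true,7664955078708),(7,26,false,8595390000),(8,0,true,7492505198418),(8,4,false,96443880000),(8,23,true,241224944184),(9,1,false,10807525068284),(9,2,true,713653895849),(9,3,false,4734565545499),(9,16,false,2381399721800),(9,26,false,20890195000),(10,4,true,156641525000),(10,24,true,603887807549),(10,25,false,3849070034355),(10,26,false,40553895000),(11,0,false,17860945496735),(11,1,false,1011369073480),(11,7,true,2383648120657),(11,22,true,2),(11,23,false,1732433027881),(11,24,true,9677987113766),(11,25,true,1649704308696),(11,26,false,126537710000)]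
set_option maxHeartbeats 0 in
set_option maxRecDepth 1000000 in
theorem cert12 : chkCert τ d n RL R0.length 0 12 (1) L12 = true := by decide +kernel
set_option maxRecDepth 1000000 in
/-- A combination of closed paths. -/
def L13 : List Entry := [(0,6,false,1135507604962),(0,7,false,2383647906010),(0,11,false,97680331152),(0,13,false,1),(0,23,true,1491207949399),(0,24,false,1598335660436),(0,26,true,76171908100),(1,0,true,4046407812281),(1,4,false,144346706928),(1,6,false,999312703596),(1,11,true,97680331152),(1,26,true,47912820660),(2,1,true,2624431989748),(2,2,false,6109018080768),(2,6,false,316194293498),(2,8,true,51602255326),(2,16,false,48112668609),(3,2,true,10487044071136),(3,3,false,411203856264),(3,8,false,9831849109),(3,17,false,9751651317893),(3,26,false,17210728441),(4,0,true,3485987708548),(4,1,false,5755591334946),(4,2,true,5227857508437),(4,3,true,1547746074277),(4,4,true,101359795819),(4,16,true,2302336287636),(4,17,false,7733777342258),(5,1,true,15635241332534),(5,2,false,11549015876960),(5,3,false,4066931487271),(5,4,true,95217376376),(5,17,true,16524997780444),(5,26,true,164638620087),(6,0,false,1974661259928),(6,4,false,11242810481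5),(6,6,true,2451014602056),(6,8,false,41770406217),(6,16,true,127175888475),(6,17,true,960430879707),(6,24,false,8683538334969),(6,25,true,2199365527701),(6,26,false,74935448214),(7,0,true,4810705103461),(7,1,false,685188909644),(7,2,true,1229478546457),(7,3,true,7664954388495),(7,26,false,8595389222),(8,0,true,7492504523755),(8,4,false,96443871264),(8,23,true,241224922408),(9,1,false,10807524095246),(9,2,true,713653831698),(9,3,false,4734565119237),(9,16,false,2381399507502),(9,26,false,20890193107),(10,4,true,156641510812),(10,24,true,603887753066),(10,25,false,3849069687744),(10,26,false,40553891327),(11,0,false,17860943888116),(11,1,false,1011368982446),(11,7,true,2383647906010),(11,22,true,2),(11,23,false,1732432871807),(11,24,true,9677986242334),(11,25,true,1649704160043),(11,26,false,126537698541)]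
set_option maxHeartbeats 0 in
set_option maxRecDepth 1000000 in
theorem cert13 : chkCert τ d n RL R0.length 0 13 (1) L13 = true := by decide +kernel
set_option maxRecDepth 1000000 in
/-- A combination of closed paths. -/
def L14 : List Entry := [(0,6,false,1135507711469),(0,7,false,2383648129719),(0,11,false,97680340237),(0,14,false,1),(0,23,true,1491208089324),(0,24,false,1598335810185),(0,26,true,76171915186),(1,0,true,4046408192110),(1,4,false,144346720359),(1,6,false,999312797660),(1,11,true,97680340237),(1,26,true,47912825119),(2,1,true,2624432236543),(2,2,false,6109018654639),(2,6,false,316194323006),(2,8,true,51602260128),(2,16,false,48112672990),(3,2,true,10487045055769),(3,3,false,411203894726),(3,8,false,9831850024),(3,17,false,9751652233146),(3,26,false,17210730034),(4,0,true,3485988035325),(4,1,false,5755591875054),(4,2,true,5227857999115),(4,3,true,1547746219429),(4,4,true,101359805246),(4,16,true,2302336503905),(4,17,false,7733778068013),(5,1,true,15635242799996),(5,2,false,11549016960815),(5,3,false,4066931868862),(5,4,true,95217385231),(5,17,true,16524999331228),(5,26,true,164638635400),(6,0,false,1974661445509),(6,4,false,11242811527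3),(6,6,true,2451014832135),(6,8,false,41770410104),(6,16,true,127175900297),(6,17,true,960430969931),(6,24,false,8683539150063),(6,25,true,2199365734251),(6,26,false,74935455195),(7,0,true,4810705555025),(7,1,false,685188974281),(7,2,true,1229478661712),(7,3,true,7664955107860),(7,26,false,8595390021),(8,0,true,7492505226984),(8,4,false,96443880234),(8,23,true,241224944951),(9,1,false,10807525109785),(9,2,true,713653898858),(9,3,false,4734565563701),(9,16,false,2381399731212),(9,26,false,20890195051),(10,4,true,156641525389),(10,24,true,603887809566),(10,25,false,3849070048965),(10,26,false,40553895095),(11,0,false,17860945563934),(11,1,false,1011369077419),(11,7,true,2383648129719),(11,22,true,2),(11,23,false,1732433034275),(11,24,true,9677987150682),(11,25,true,1649704314708),(11,26,false,126537710315)]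
set_option maxHeartbeats 0 in
set_option maxRecDepth 1000000 in
theorem cert14 : chkCert τ d n RL R0.length 0 14 (1) L14 = true := by decide +kernel
set_option maxRecDepth 1000000 in
/-- A combination of closed paths. -/
def L15 : List Entry := [(0,6,false,3),(0,7,false,10),(0,15,false,1),(0,23,true,5),(0,24,false,8),(1,0,true,11),(2,1,true,3),(2,2,false,8),(2,6,false,5),(2,16,false,1),(3,2,true,35),(3,3,false,4),(3,17,false,40),(4,0,true,15),(4,1,false,27),(4,2,true,18),(4,3,true,1),(4,16,true,7),(4,17,false,30),(5,1,true,66),(5,2,false,48),(5,3,false,13),(5,17,true,67),(6,0,true,2),(6,6,true,8),(6,16,true,3),(6,17,true,3),(6,24,false,36),(6,25,true,6),(7,0,true,19),(7,1,true,2),(7,3,true,34),(8,0,true,30),(8,23,false,2),(9,1,false,39),(9,2,true,3),(9,3,false,18),(9,16,false,9),(10,24,true,3),(10,25,false,15),(11,0,false,77),(11,1,false,5),(11,7,true,10),(11,22,false,4),(11,23,false,7),(11,24,true,38),(11,25,true,9)]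
set_option maxHeartbeats 0 in
set_option maxRecDepth 1000000 in
theorem cert15 : chkCert τ d n RL R0.length 0 15 (0) L15 = true := by decide +kernel
set_option maxRecDepth 1000000 in
/-- A combination of closed paths. -/
def L16 : List Entry := [(0,6,false,1135507706838),(0,7,false,2383648119722),(0,11,false,97680340000),(0,23,true,1491208083126),(0,24,false,1598335803995),(0,26,true,76171915000),(1,0,true,4046408174999),(1,4,false,144346720000),(1,6,false,999312792880),(1,11,true,97680340000),(1,26,true,47912825000),(2,1,true,2624432224515),(2,2,false,6109018627866),(2,6,false,316194322024),(2,8,true,51602260000),(2,16,false,48112673091),(3,2,true,10487045010897),(3,3,false,411203893268),(3,8,false,9831850000),(3,17,false,9751652192153),(3,26,false,17210730000),(4,0,true,3485988021498),(4,1,false,5755591851042),(4,2,true,5227857977084),(4,3,true,1547746213123),(4,4,true,101359805000),(4,16,true,2302336493853),(4,17,false,7733778035696),(5,1,true,15635242734237),(5,2,false,11549016912436),(5,3,false,4066931851979),(5,4,true,95217385000),(5,17,true,16524999262122),(5,26,true,164638635000),(6,0,false,1974661436693),(6,4,false,112428115000),(6,6,true,24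51014821742),(6,8,false,41770410000),(6,16,true,127175900001),(6,17,true,960430965727),(6,24,false,8683539113336),(6,25,true,2199365724719),(6,26,false,74935455000),(7,0,true,4810705534688),(7,1,false,685188970724),(7,2,true,1229478656837),(7,3,true,7664955075699),(7,26,false,8595390000),(8,0,true,7492505195454),(8,4,false,96443880000),(8,23,true,241224944131),(9,1,false,10807525063921),(9,2,true,713653895484),(9,3,false,4734565543575),(9,16,false,2381399720764),(9,26,false,20890195000),(10,4,true,156641525000),(10,24,true,603887807399),(10,25,false,3849070032848),(10,26,false,40553895000),(11,0,false,17860945489945),(11,1,false,1011369073065),(11,7,true,2383648119722),(11,22,false,2),(11,23,false,1732433027260),(11,24,true,9677987109928),(11,25,true,1649704308129),(11,26,false,126537710000)]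
set_option maxHeartbeats 0 in
set_option maxRecDepth 1000000 in
theorem cert16 : chkCert τ d n RL R0.length 0 16 (1) L16 = true := by decide +kernel
set_option maxRecDepth 1000000 in
/-- A combination of closed paths. -/
def L17 : List Entry := [(0,6,false,1135507706838),(0,7,false,2383648119721),(0,11,false,97680340000),(0,23,true,1491208083125),(0,24,false,1598335803989),(0,26,true,76171915000),(1,0,true,4046408174997),(1,4,false,144346720000),(1,6,false,999312792879),(1,11,true,97680340000),(1,26,true,47912825000),(2,1,true,2624432224517),(2,2,false,6109018627862),(2,6,false,316194322022),(2,8,true,51602260000),(2,16,false,48112673093),(3,2,true,10487045010894),(3,3,false,411203893267),(3,8,false,9831850000),(3,17,false,9751652192150),(3,26,false,17210730000),(4,0,true,3485988021492),(4,1,false,5755591851039),(4,2,true,5227857977077),(4,3,true,1547746213118),(4,4,true,101359805000),(4,16,true,2302336493853),(4,17,false,7733778035692),(5,1,true,15635242734228),(5,2,false,11549016912430),(5,3,false,4066931851973),(5,4,true,95217385000),(5,17,true,16524999262114),(5,26,true,164638635000),(6,0,false,1974661436693),(6,4,false,112428115000),(6,6,true,24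51014821739),(6,8,false,41770410000),(6,16,true,127175900001),(6,17,true,960430965727),(6,24,false,8683539113328),(6,25,true,2199365724715),(6,26,false,74935455000),(7,0,true,4810705534686),(7,1,false,685188970725),(7,2,true,1229478656837),(7,3,true,7664955075695),(7,26,false,8595390000),(8,0,true,7492505195450),(8,4,false,96443880000),(8,23,true,241224944130),(9,1,false,10807525063914),(9,2,true,713653895484),(9,3,false,4734565543573),(9,16,false,2381399720761),(9,26,false,20890195000),(10,4,true,156641525000),(10,24,true,603887807397),(10,25,false,3849070032846),(10,26,false,40553895000),(11,0,false,17860945489931),(11,1,false,1011369073067),(11,7,true,2383648119721),(11,23,false,1732433027258),(11,24,true,9677987109919),(11,25,true,1649704308128),(11,26,false,126537710000)]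
set_option maxHeartbeats 0 in
set_option maxRecDepth 1000000 in
theorem cert17 : chkCert τ d n RL R0.length 0 17 (1) L17 = true := by decide +kernel
set_option maxRecDepth 1000000 in
/-- A combination of closed paths. -/
def L18 : List Entry := [(0,6,false,1135507706839),(0,7,false,2383648119722),(0,11,false,97680340000),(0,23,true,1491208083126),(0,24,false,1598335803995),(0,26,true,76171915000),(1,0,true,4046408175002),(1,4,false,144346720000),(1,6,false,999312792881),(1,11,true,97680340000),(1,26,true,47912825000),(2,1,true,2624432224515),(2,2,false,6109018627873),(2,6,false,316194322024),(2,8,true,51602260000),(2,16,false,48112673089),(3,2,true,10487045010903),(3,3,false,411203893266),(3,8,false,9831850000),(3,17,false,9751652192155),(3,26,false,17210730000),(4,0,true,3485988021498),(4,1,false,5755591851041),(4,2,true,5227857977084),(4,3,true,1547746213124),(4,4,true,101359805000),(4,16,true,2302336493854),(4,17,false,7733778035697),(5,1,true,15635242734240),(5,2,false,11549016912436),(5,3,false,4066931851980),(5,4,true,95217385000),(5,17,true,16524999262124),(5,26,true,164638635000),(6,0,false,1974661436697),(6,4,false,112428115000),(6,6,true,24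51014821744),(6,8,false,41770410000),(6,16,true,127175900001),(6,17,true,960430965728),(6,18,false,1),(6,24,false,8683539113338),(6,25,true,2199365724720),(6,26,false,74935455000),(7,0,true,4810705534688),(7,1,false,685188970726),(7,2,true,1229478656838),(7,3,true,7664955075698),(7,26,false,8595390000),(8,0,true,7492505195456),(8,4,false,96443880000),(8,23,true,241224944132),(9,1,false,10807525063924),(9,2,true,713653895484),(9,3,false,4734565543576),(9,16,false,2381399720766),(9,26,false,20890195000),(10,4,true,156641525000),(10,24,true,603887807399),(10,25,false,3849070032849),(10,26,false,40553895000),(11,0,false,17860945489946),(11,1,false,1011369073064),(11,7,true,2383648119722),(11,22,false,2),(11,23,false,1732433027260),(11,24,true,9677987109932),(11,25,true,1649704308127),(11,26,false,126537710000)]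
set_option maxHeartbeats 0 in
set_option maxRecDepth 1000000 in
theorem cert18 : chkCert τ d n RL R0.length 0 18 (1) L18 = true := by decide +kernel
set_option maxRecDepth 1000000 in
/-- A combination of closed paths. -/
def L19 : List Entry := [(0,6,false,18200),(0,7,false,18033),(0,11,false,13272),(0,19,false,1),(0,23,true,16026),(0,24,false,47418),(0,26,true,10349),(1,0,true,23700),(1,4,false,19614),(1,6,true,33975),(1,11,true,13272),(1,26,true,6510),(2,1,false,50255),(2,2,true,36968),(2,6,false,26127),(2,8,true,7011),(2,16,false,23374),(3,2,true,14957),(3,3,false,22204),(3,8,false,1335),(3,17,false,67959),(3,26,false,2340),(4,0,true,83641),(4,1,false,51098),(4,2,true,31306),(4,3,true,23705),(4,4,true,13773),(4,16,false,9848),(4,17,false,65954),(5,1,true,102775),(5,2,false,91915),(5,3,false,43322),(5,4,true,12937),(5,17,true,139503),(5,26,true,22370),(6,0,true,20701),(6,4,false,15274),(6,6,true,10352),(6,8,false,5676),(6,16,true,17278),(6,17,false,5590),(6,24,false,42078),(6,25,false,7009),(6,26,false,10182),(7,0,true,25134),(7,1,true,42989),(7,2,true,30971),(7,3,true,56605),(7,26,false,1168),(8,0,true,50009),(8,4,false,13104),(8,23,true,15943),(9,1,false,41663),(9,2,false,22287),(9,3,false,14784),(9,16,true,15944),(9,26,false,2838),(10,4,true,21282),(10,24,true,31550),(10,25,false,30556),(10,26,false,5511),(11,0,false,203185),(11,1,false,2748),(11,7,true,18033),(11,23,false,31969),(11,24,true,57941),(11,25,true,37563),(11,26,false,17195)]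
set_option maxHeartbeats 0 in
set_option maxRecDepth 1000000 in
theorem cert19 : chkCert τ d n RL R0.length 0 19 (0) L19 = true := by decide +kernel
set_option maxRecDepth 1000000 in
/-- A combination of closed paths. -/
def L20 : List Entry := [(0,6,true,107),(0,7,true,106),(0,11,true,79),(0,23,false,93),(0,24,true,287),(0,26,false,61),(1,0,false,132),(1,4,true,114),(1,6,false,203),(1,11,false,79),(1,26,false,38),(2,1,true,311),(2,2,false,212),(2,6,true,158),(2,8,false,41),(2,16,true,133),(3,2,false,88),(3,3,true,131),(3,8,true,8),(3,17,true,394),(3,26,true,15),(4,0,false,496),(4,1,true,304),(4,2,false,190),(4,3,false,152),(4,4,false,82),(4,16,true,64),(4,17,true,392),(5,1,false,612),(5,2,true,537),(5,3,true,260),(5,4,false,77),(5,17,false,819),(5,26,false,133),(6,0,false,131),(6,4,true,92),(6,6,false,62),(6,8,true,33),(6,16,false,106),(6,17,true,33),(6,24,true,253),(6,25,true,33),(6,26,true,57),(7,0,false,143),(7,1,false,257),(7,2,false,179),(7,3,false,331),(7,26,true,7),(8,0,false,288),(8,4,true,78),(8,23,false,95),(9,1,true,253),(9,2,true,132),(9,3,true,92),(9,16,false,91),(9,20,false,1),(9,26,true,17),(10,4,false,125),(10,24,false,185),(10,25,true,182),(10,26,true,33),(11,0,true,1190),(11,1,true,1),(11,7,false,106),(11,23,true,187),(11,24,false,358),(11,25,false,219),(11,26,true,99)]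
set_option maxHeartbeats 0 in
set_option maxRecDepth 1000000 in
theorem cert20 : chkCert τ d n RL R0.length 0 20 (0) L20 = true := by decide +kernel
set_option maxRecDepth 1000000 in
/-- A combination of closed paths. -/
def L21 : List Entry := [(0,7,false,2),(0,11,true,1),(0,23,false,2),(0,24,false,12),(0,26,false,2),(1,0,false,10),(1,4,true,3),(1,6,true,4),(1,11,false,1),(1,26,false,2),(2,1,false,17),(2,2,false,2),(2,6,false,8),(2,8,false,2),(2,16,true,8),(3,2,true,12),(3,8,true,2),(3,17,false,6),(3,26,false,4),(4,0,true,4),(4,1,false,11),(4,2,true,6),(4,3,true,6),(4,4,false,1),(4,16,false,4),(4,17,false,12),(5,1,true,25),(5,2,false,10),(5,3,false,4),(5,4,false,1),(5,17,true,16),(5,26,false,2),(6,0,true,16),(6,4,true,5),(6,6,true,4),(6,16,true,4),(6,17,true,2),(6,24,false,16),(6,25,true,8),(6,26,true,4),(7,0,true,2),(7,1,true,5),(7,2,false,6),(7,3,true,10),(8,0,true,4),(8,4,true,1),(9,1,false,15),(9,3,false,12),(9,16,false,8),(10,4,false,7),(10,25,false,6),(10,26,false,2),(11,0,false,16),(11,1,true,13),(11,7,true,2),(11,21,false,1),(11,22,false,4),(11,23,true,2),(11,24,true,26),(11,25,false,2),(11,26,true,2)]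
set_option maxHeartbeats 0 in
set_option maxRecDepth 1000000 in
theorem cert21 : chkCert τ d n RL R0.length 0 21 (0) L21 = true := by decide +kernel

end Cfsg.Agent.Lib.KnownSimple.MultM.M12
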