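import Mathlib

/-!
# Data of a coset enumeration
-/

set_option autoImplicit false

namespace Cfsg.Agent.Lib.KnownSimple.MultM.M12

/-- Generated data. -/
def par2 : ℕ := 0x8c1ed6b18b5a0e7318a52908418c4108400
/-- Generated data. -/
def gix2 : ℕ := 0x33727dd9348e4c
/-- Generated data. -/
def dp2 : ℕ := 0xb6db6db249248db6da488
/-- Generated data. -/
def fa2 : ℕ := 0x1ad52107398c629083104ed3b605294a44310834867a1ceb7bd992c4bb6c20d9b7599c7507b5ada598c5ae483c2077990a5294e3b8c52aca4210661882210c2100000
/-- Generated data. -/
def fl2 : ℕ := 0x1010608002000c0800608081000c083c6071820203181078c063078c003c60b183018c063038c063040f183c6031810400003000c080000418004041030608001020c08202031820000082020c0030200102000c101040c0800608080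
/-- Generated data. -/
def fb2 : ℕ := 0xa7228832a143104a1081adb9db021d253118f41a471d167655eccae25db7106cdbbdee7ace2ed94ad5a4e528a6107bd08329c84b9cd62d6a4a0e63148210c6208000
/-- Generated data. -/
def fk2 : ℕ := 0x832904411462290631146518c84188632884528845210a51084318844214a5109b5b0280000077c80000160028c08012418a8c718000200000013000159c40000421
/-- Generated data. -/
def po2 : ℕ := 0x22b1489c4a231087c3a1b0c85c2a130883c1a0902803f9f8fa7c3d9e8f2783b9d8ea74399c8e16fb75b6d96bb55a6d167b3596c963b1586c15faf564a9502812e974ba5d2e8e431f8fc7e3f1f8e673399b8ca652e974b0562a1448e3d198a8542a1508442211088442190c8643210040000000000000000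
/-- Generated data. -/
def pc2 : ℕ := 0x1111111111111111222222222222222223222222222222222222b990900009880000b00590805223aaa90009000008000988000000
/-- Generated data. -/
def pa2 : ℕ := 0x28b220381c1aa49e36161412a60a0806af5aaa75ac5baa40a829a344a31ea32ea01f9c26993c9a1c9987963d944892178e578b258a8c1a8b4f88257c4685508251805e7e2778687a23786476286e67735c705d6a606c596a636367685e3e5f69664c22295e3c161b41426163674c221408131f2e47656043451e1d49564e4d28234f574b564e22294e221410152753555226141108131d494838201206050713213949401a0a131f402f1e1d3b1c1f2e413c3635391c21373d38371836393331332a332d32201d302a160d17192b2d2a160a09110f1108131d1a17182b2c2a160a131f2a160a0911080b172b221408060107091523160d0a0603070b1708060004020007090e080602070b0d0a090a0603010501070b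
/-- Generated data. -/
def can2 : ℕ := 0xda876543210
/-- Generated data. -/
def tb2_0 : ℕ := 0xa9453786120
/-- Generated data. -/
def fi2_0 : ℕ := 0xb0d65c78290e176c200
/-- Generated data. -/
def tb2_1 : ℕ := 0x768a9451230
/-- Generated data. -/
def fi2_1 : ℕ := 0x1a0d9db3869ddb820281
/-- Generated data. -/
def tb2_2 : ℕ := 0x58936a17240
/-- Generated data. -/
def fi2_2 : ℕ := 0x1a4e66c830a5e1a1c482
/-- Generated data. -/
def tb2_3 : ℕ := 0xa4678293501
/-- Generated data. -/
def fi2_3 : ℕ := 0x1633cf918af900c2ad03

end Cfsg.Agent.Lib.KnownSimple.MultM.M12
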